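import Cfsg.Agent.Mrg.Omega.NO3S.EThree.FourTwo.End
import Cfsg.Agent.Mrg.Omega.NO3S.EThree.Row7Split
import Cfsg.Agent.Mrg.Omega.EK3.FK.KOneI


/-!
# Row (7), (4F), `k = 2`: the sockets

* `false_two` : (4F) is impossible;  `ti_two` : (TI);
* `fourK_of` : 514's socket `FourK`;  `tiIn_of`, `fourIn_of` : the sockets of Row7.
-/

set_option autoImplicit false
set_option linter.unusedSectionVars false

namespace Cfsg.Agent.Omega.NO3S.EThree.FourTwo

open Subgroup Cfsg Cfsg.Agent.ZN.ChoiceBase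
open Cfsg.Agent.ZN (jj zj bau zc zl o2)
open Cfsg.Agent.Omega.NO3S.EThree.Frame
open Cfsg.Agent.Omega.Node.MultiOf
open Cfsg.Agent.Omega.EK3.FK
open Cfsg.Agent.Omega.ML.Final (MLK)
open Cfsg.Agent.Omega.Frame (Cls)

universe u

variable {G : Type u} [Group G] [Finite G] {S : Sylow 2 G} {P K B ZJ : Subgroup G} {L W Z C : Fin 2 → Subgroup G}

/-- **(4F) is impossible, `k = 2`, every stage.** -/
theorem false_two (hML : MLK.{u, u}) (hX : ML.Ex.Two.Ext.{u, u}) {z : Fin 2 → G} (h : FrK S P K B ZJ L W Z C z)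
    (hE : NLoc (KZ B ZJ))
    (hp : ∀ i, ∃ f ∈ DD z, f ∈ normalizer (W i : Set G) ∧ f ∉ normalizer (Z i : Set G)) : False :=
  false_of_k1 hML hX h hE hp fun i => h.o2_le_Z (hp i)

/-- **(TI), `k = 2`, `4 ≤ q`, every stage.** -/
theorem ti_two {q : ℕ} (hML : MLK.{u, u}) (hX : ML.Ex.Two.Ext.{u, u}) (h : Mul S P K B ZJ L W Z C q) (hq : 4 ≤ q)
    (hE : NLoc (KZ B ZJ)) : ∀ i, TI (Z i) :=
  ti_two' h hq fun _ _ hz hp => false_two hML hX hz hE hp

/-- **The socket `FourK` of Row7Split.** -/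
theorem fourK_of (K : Cls.{u}) (hML : MLK.{u, u}) (hX : ML.Ex.Two.Ext.{u, u}) : Row7Split.FourK K := by
  intro G _ _ _ S P K' B ZJ L W Z C h hE z hz hp
  refine (false_two hML hX (frK_of h hz) hE fun i => ?_).elim
  obtain ⟨f, hf, hW, hZ⟩ := hp i
  exact ⟨f, mem_DD.2 (EK3.Q.mem_DD.1 hf), hW, hZ⟩

/-- **The socket `TiIn` of Row7.** -/
theorem tiIn_of (K : Cls.{u}) (hML : MLK.{u, u}) (hX : ML.Ex.Two.Ext.{u, u}) : Row7.TiIn K := by
  intro G _ _ _ S P K' B ZJ L W Z C q hq h hE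
  exact Or.inl (ti_two hML hX h hq hE)

/-- **The socket `FourIn` of Row7.** -/
theorem fourIn_of (K : Cls.{u}) (hML : MLK.{u, u}) (hX : ML.Ex.Two.Ext.{u, u}) : Row7.FourIn K := by
  intro G _ _ _ S P K' B ZJ L W Z C q hq h hE _ hn
  exact (hn (ti_two hML hX h hq hE)).elim

end Cfsg.Agent.Omega.NO3S.EThree.FourTwo
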